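import Groth.Agent.PtdP1Lib.Points
import Mathlib

/-! The standard charts of the projective line as spectra of polynomial rings. -/

set_option autoImplicit false
set_option backward.isDefEq.respectTransparency false
set_option linter.style.haveILetI false

universe u

open CategoryTheory AlgebraicGeometry MvPolynomial HomogeneousLocalization
open Groth.Agent

noncomputable section

namespace Groth.Agent.P1PuncLib

variable {K : Type u} [Field K]

/-- The coordinates of the generic point of a chart. -/
def chartVec (c : Fin 2) : Fin 2 → Polynomial K := fun i => if i = c then 1 else Polynomial.X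

theorem isUnit_chartVec (c : Fin 2) : IsUnit (chartVec (K := K) c c) := by simp [chartVec]

theorem bijective_evalAway (c : Fin 2) :
    Function.Bijective (ProjMap.evalAway (R := K) (chartVec (K := K) c) (X c)
      (by simpa using isUnit_chartVec (K := K) c)) := by
  let A := Away (CohB1.polyGrading 1 K) (X c : MvPolynomial (Fin 2) K)
  letI : Algebra K A := ((fromZeroRingHom (CohB1.polyGrading 1 K)
    (Submonoid.powers (X c : MvPolynomial (Fin 2) K))).comp
      (algebraMap K (CohB1.polyGrading 1 K 0))).toAlgebra
  have hu : IsUnit (aeval (chartVec (K := K) c) (X c : MvPolynomial (Fin 2) K)) := by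
    simpa using isUnit_chartVec (K := K) c
  let ev : A →+* Polynomial K := ProjMap.evalAway (R := K) (chartVec c) (X c) hu
  show Function.Bijective ev
  obtain ⟨d, hdc, hd⟩ : ∃ d : Fin 2, d ≠ c ∧ ∀ i : Fin 2, i = c ∨ i = d := by
    fin_cases c
    · exact ⟨1, by simp, fun i => by fin_cases i <;> simp⟩
    · exact ⟨0, by simp, fun i => by fin_cases i <;> simp⟩
  let e : Fin 2 → A := ProjMap.coords (R := K) c (RingHom.id A)
  let ψ : Polynomial K →ₐ[K] A := Polynomial.aeval (e d)
  have hψv : ∀ i, ψ (chartVec c i) = e i := fun i => by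
    rcases hd i with rfl | rfl
    · simp [chartVec, e, ψ]
    · simp [chartVec, ψ, hdc]
  have hr : ψ.toRingHom.comp ev = RingHom.id A := by
    have hφ : ProjMap.IsAlg (R := K) c (RingHom.id A) := fun r => rfl
    rw [ProjMap.eq_evalAway_coords c (RingHom.id A) hφ]
    show ψ.toRingHom.comp (ProjMap.evalAway (R := K) (chartVec c) (X c) hu) = _
    rw [ProjMap.comp_evalAway ψ.toRingHom ψ.commutes (ProjMap.X_mem c)]
    · congr 1
      funext i
      exact hψv i
    · simpa using (isUnit_chartVec (K := K) c).map ψ
  have hl : ev.comp ψ.toRingHom = RingHom.id _ := by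
    refine Polynomial.ringHom_ext (fun r => ?_) ?_
    · show ev (ψ (Polynomial.C r)) = Polynomial.C r
      rw [show ψ (Polynomial.C r) = algebraMap K A r from Polynomial.aeval_C _ _]
      exact ProjMap.evalAway_fromZero (chartVec c) (X c) hu r
    · show ev (ψ Polynomial.X) = Polynomial.X
      rw [show ψ Polynomial.X = e d from Polynomial.aeval_X _]
      have h := ProjMap.evalAway_mk (R := K) (v := chartVec c) (ProjMap.X_mem c) hu 1 (X d)
        (by simpa using ProjMap.X_mem (R := K) (n := 1) d)
      simpa [chartVec, hdc, e, ev, ProjMap.coords] using h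
  exact ⟨Function.LeftInverse.injective (g := ψ) fun x => congr($hr x),
    Function.RightInverse.surjective (g := ψ) fun x => congr($hl x)⟩

/-- The affine line as a chart of the projective line. -/
def polyPoint (c : Fin 2) : Spec (CommRingCat.of (Polynomial K)) ⟶ CohB1.ProjSpace 1 K :=
  ProjMap.point (R := K) (chartVec c) c (isUnit_chartVec c)

theorem isOpenImmersion_polyPoint (c : Fin 2) : IsOpenImmersion (polyPoint (K := K) c) := by
  haveI : IsIso (CommRingCat.ofHom (ProjMap.evalAway (R := K) (chartVec (K := K) c) (X c)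
      (by simpa using isUnit_chartVec (K := K) c))) :=
    (ConcreteCategory.isIso_iff_bijective _).2 (bijective_evalAway c)
  haveI : IsOpenImmersion (ProjMap.chart (R := K) c) := by
    unfold ProjMap.chart
    infer_instance
  unfold polyPoint ProjMap.point
  infer_instance

/-- The standard opens. -/
abbrev bo (c : Fin 2) : (CohB1.ProjSpace 1 K).Opens := Proj.basicOpen (CohB1.polyGrading 1 K) (X c)

theorem range_polyPoint (c : Fin 2) :
    Set.range (polyPoint (K := K) c) = ((bo c : (CohB1.ProjSpace 1 K).Opens) : Set (CohB1.ProjSpace 1 K)) := by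
  haveI : IsIso (CommRingCat.ofHom (ProjMap.evalAway (R := K) (chartVec (K := K) c) (X c)
      (by simpa using isUnit_chartVec (K := K) c))) :=
    (ConcreteCategory.isIso_iff_bijective _).2 (bijective_evalAway c)
  have h1 : Set.range (ProjMap.chart (R := K) c) =
      ((bo c : (CohB1.ProjSpace 1 K).Opens) : Set (CohB1.ProjSpace 1 K)) :=
    congrArg (fun U : (CohB1.ProjSpace 1 K).Opens => (U : Set (CohB1.ProjSpace 1 K)))
      (Proj.opensRange_awayι (CohB1.polyGrading 1 K) (X c) (ProjMap.X_mem c) one_pos)
  rw [← h1, polyPoint, ProjMap.point]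
  show Set.range (⇑(ProjMap.chart (R := K) c) ∘ ⇑(Spec.map (CommRingCat.ofHom (ProjMap.evalAway (R := K) (chartVec (K := K) c) (X c) _)))) = _
  exact Function.Surjective.range_comp (Scheme.Hom.surjective _) _

theorem polyPoint_toSpec (c : Fin 2) : polyPoint (K := K) c ≫ CohB1.ProjSpace.toSpec 1 K =
    Spec.map (CommRingCat.ofHom (algebraMap K (Polynomial K))) := ProjMap.point_toSpec _ _ _

/-- The complement of the zeroth chart is one rational point. -/
theorem range_polyPoint_zero :
    Set.range (polyPoint (K := K) 0) = ({PtdP1Lib.stdPt (K := K) 1 default}ᶜ : Set (CohB1.ProjSpace 1 K)) := by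
  let ev0 : Polynomial K →+* K := Polynomial.evalRingHom 0
  have hs : PtdP1Lib.stdPt (K := K) 1 = Spec.map (CommRingCat.ofHom ev0) ≫ polyPoint 1 := by
    rw [polyPoint, ProjMap.specMap_point ev0 (fun r => Polynomial.eval_C), PtdP1Lib.stdPt]
    congr 1
    funext i
    fin_cases i <;> simp [chartVec, ev0]
  let y0 : Spec (CommRingCat.of (Polynomial K)) := Spec.map (CommRingCat.ofHom ev0) default
  have hy0 : y0.asIdeal = RingHom.ker ev0 := by
    show Ideal.comap ev0 _ = Ideal.comap ev0 ⊥
    congr 1
  have hs1 : PtdP1Lib.stdPt (K := K) 1 default = polyPoint 1 y0 := by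
    rw [hs]
    rfl
  have hpre : ∀ y : Spec (CommRingCat.of (Polynomial K)),
      polyPoint (K := K) 1 y ∈ Proj.basicOpen (CohB1.polyGrading 1 K) (X 0) ↔
        (Polynomial.X : Polynomial K) ∉ y.asIdeal := by
    intro y
    show y ∈ polyPoint (K := K) 1 ⁻¹ᵁ Proj.basicOpen (CohB1.polyGrading 1 K) (X 0) ↔ _
    rw [polyPoint, ProjMap.point_preimage_basicOpen _ _ _ one_pos (ProjMap.X_mem 0), aeval_X]
    simp [chartVec]
    rfl
  rw [range_polyPoint]
  ext x
  simp only [SetLike.mem_coe, Set.mem_compl_iff, Set.mem_singleton_iff]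
  constructor
  · intro hx heq
    rw [heq, hs1, hpre, hy0, RingHom.mem_ker] at hx
    exact hx (by simp [ev0])
  · intro hne
    by_contra hx
    have h1 : x ∈ Proj.basicOpen (CohB1.polyGrading 1 K) (X 1) := by
      obtain ⟨i, hi⟩ := ProjMap.exists_chart K x
      rw [show (ProjMap.chart (R := K) i).opensRange = Proj.basicOpen (CohB1.polyGrading 1 K) (X i) from
        Proj.opensRange_awayι (CohB1.polyGrading 1 K) (X i) (ProjMap.X_mem i) one_pos] at hi
      fin_cases i
      · exact absurd hi hx
      · exact hi
    obtain ⟨y, rfl⟩ : x ∈ Set.range (polyPoint (K := K) 1) := by rw [range_polyPoint]; exact h1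
    rw [hpre, not_not] at hx
    haveI : (RingHom.ker ev0).IsMaximal :=
      RingHom.ker_isMaximal_of_surjective ev0 fun a => ⟨Polynomial.C a, Polynomial.eval_C⟩
    have hle : RingHom.ker ev0 ≤ y.asIdeal := fun p hp => by
      have hp0 : p.coeff 0 = 0 := by rw [Polynomial.coeff_zero_eq_eval_zero]; exact hp
      obtain ⟨q, rfl⟩ := Polynomial.X_dvd_iff.2 hp0
      exact y.asIdeal.mul_mem_right q hx
    refine hne ?_
    rw [hs1]
    congr 1
    refine PrimeSpectrum.ext ?_
    rw [hy0]
    exact (Ideal.IsMaximal.eq_of_le inferInstance y.isPrime.ne_top hle).symm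

end Groth.Agent.P1PuncLib
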